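import Cfsg.Agent.Lib.Schur.Co3.Data5
import Cfsg.Agent.Lib.Schur.TailsSLP
import Cfsg.Agent.Lib.Sporadic.OutCert.Co3.Data

/-!
Kernel checks of the data for the 5-part of the multiplier of the third Conway group.
-/

set_option autoImplicit false
set_option maxRecDepth 100000
set_option maxHeartbeats 0

namespace CfsgLib.Schur.Sporadic.Co3

open CfsgLib.Sporadic.OutCert

theorem slp5_ok : Tails.slpK 10 552 3 slpTab5 slpW5 = true ∧
    slpTab5.take 3 = [Co3.ka, Co3.kn, Co3.kb] := by decide +kernel

theorem pick5_ok : Tails.pickK 10 552 slpTab5 ids5 kk5 = true ∧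
    Tails.pickK 10 552 slpTab5 gids5 gk5 = true := by decide +kernel

theorem cert5_eqs : cert5.eqsOK = true := by decide +kernel

theorem cert5_comb : cert5.combOK = true := by decide +kernel

theorem cert5_shape : cert5.shapeOK = true ∧ cert5.p = 5 ∧ ¬ 5 ∣ cert5.m ∧ cert5.b = 1 ∧
    ¬ 5 ^ (cert5.r + 1) ∣ 495766656000 := by decide +kernel

theorem rels5_ok : Tails.relK 10 552 kk5 cert5 = true ∧ Tails.fusK 10 552 kk5 gk5 cert5 = true := by
  decide +kernel

theorem all5_ok : Tails.wordsOK 10 552 kk5 pts5 words5 0 cert5.r = true ∧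
    words5.length = 5 ^ cert5.r := by decide +kernel

theorem inner5_ok : Tails.wordsOK 10 552 kk5 pts5in words5in cert5.a cert5.r = true ∧
    words5in.length = 5 ^ (cert5.r - cert5.a) := by decide +kernel

theorem ord_ok : Tails.pickK 10 552 slpTab5 ordIds ordK = true ∧
    ((List.range 3).all fun i => testK 10 552 [ordK.getD i 0] ([7, 11, 23].getD i 0) &&
      !(ordK.getD i 0 == oneK 10 552) && ordK.getD i 0 == pkF 10 (lk 10 (ordK.getD i 0)) 552 0) = true ∧
    ordK.length = 3 := by decide +kernel

end CfsgLib.Schur.Sporadic.Co3
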