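import Cfsg.Agent.Lib.Schur.Co3.Check2
import Cfsg.Agent.Lib.Schur.Co3.Check3
import Cfsg.Agent.Lib.Schur.Co3.Check5
import Cfsg.Agent.Lib.Sporadic.OutCert.Co3.Group

/-!
The multiplier of the third Conway group is trivial.
-/

set_option autoImplicit false
set_option maxRecDepth 100000

namespace CfsgLib.Schur.Sporadic.Co3

open CfsgLib.Sporadic.OutCert

attribute [local irreducible] lk pkF allF compK slpTab2 slpTab3 slpTab5 kk2 kk3 kk5 gk2 gk3 gk5 ordK

theorem base_mem {tab : List ℕ} (h : tab.take 3 = [Co3.ka, Co3.kn, Co3.kb]) :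
    ∀ i < 3, ∃ q : Co3.H, Rep 10 552 (tab.getD i (oneK 10 552)) ((Co3.H).subtype q) := by
  intro i hi
  have : tab.getD i (oneK 10 552) = (tab.take 3).getD i (oneK 10 552) := by
    simp [List.getD_eq_getElem?_getD, List.getElem?_take, hi]
  rw [this, h]
  interval_cases i
  · exact ⟨⟨Co3.pA, Co3.A_mem⟩, Co3.rep_A⟩
  · exact ⟨⟨Co3.pN, Co3.N_mem⟩, Co3.rep_N⟩
  · exact ⟨⟨Co3.pB, Co3.B_mem⟩, Co3.rep_B⟩

theorem card_ker_le (Γ : Type) [Group Γ] [Finite Γ] (σ : Γ →* Co3.H) (hσ : Cfsg.IsStemExtension σ) :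
    Nat.card σ.ker ≤ 1 := by
  obtain ⟨-, hcard, -, -⟩ := Co3.H_spec
  have hinj : Function.Injective (Co3.H).subtype := Subtype.coe_injective
  refine Tails.card_ker_le σ hσ one_ne_zero fun p hp hd => ?_
  rw [hcard] at hd
  have hp' : p = 2 ∨ p = 3 ∨ p = 5 ∨ p = 7 ∨ p = 11 ∨ p = 23 := by
    have h1 : p ∣ 2 ^ 10 * 3 ^ 7 * 5 ^ 3 * 7 * 11 * 23 := hd
    have q : ∀ r : ℕ, r.Prime → p ∣ r → p = r := fun r hr h => (Nat.prime_dvd_prime_iff_eq hp hr).1 h
    simp only [Nat.Prime.dvd_mul hp] at h1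
    rcases h1 with ((((h1 | h1) | h1) | h1) | h1) | h1
    · exact Or.inl (q 2 Nat.prime_two (hp.dvd_of_dvd_pow h1))
    · exact Or.inr (Or.inl (q 3 Nat.prime_three (hp.dvd_of_dvd_pow h1)))
    · exact Or.inr (Or.inr (Or.inl (q 5 Nat.prime_five (hp.dvd_of_dvd_pow h1))))
    · exact Or.inr (Or.inr (Or.inr (Or.inl (q 7 (by norm_num) h1))))
    · exact Or.inr (Or.inr (Or.inr (Or.inr (Or.inl (q 11 (by norm_num) h1)))))
    · exact Or.inr (Or.inr (Or.inr (Or.inr (Or.inr (q 23 (by norm_num) h1)))))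
  haveI := Fact.mk hp
  have hord : ∀ j < 3, ∀ m : ℕ, [7, 11, 23].getD j 0 = m → m.Prime → ¬ m ^ 2 ∣ 495766656000 →
      (Nat.card σ.ker).factorization m = 0 := by
    intro j hj m hm hmp hm2
    haveI := Fact.mk hmp
    obtain ⟨h1, h2, h3⟩ := ord_ok
    have h := List.all_eq_true.1 h2 j (List.mem_range.2 hj)
    simp only [Bool.and_eq_true, Bool.not_eq_true', beq_eq_false_iff_ne, beq_iff_eq, hm] at h
    have hmem := Tails.exists_pick (Co3.H).subtype Co3.hw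
      (Tails.exists_slp (Co3.H).subtype Co3.hw (base_mem slp5_ok.2) slp5_ok.1) h1 j
    have hd : ordK.getD j (oneK 10 552) = ordK.getD j 0 := by
      rw [List.getD_eq_getElem _ _ (h3 ▸ hj), List.getD_eq_getElem _ _ (h3 ▸ hj)]
    rw [hd] at hmem
    obtain ⟨q, hq⟩ := Tails.exists_orderOf (Co3.H).subtype Co3.hw hinj hmem h.1.1 h.1.2 h.2
    exact Tails.factorization_card_ker_of_orderOf σ hσ q (k := 1) (by rw [hq, pow_one]) (by rwa [hcard])
  rcases hp' with rfl | rfl | rfl | rfl | rfl | rfl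
  · obtain ⟨hs, hDp, hm, hb, hQ⟩ := cert2_shape
    have hs2 := Tails.exists_slp (Co3.H).subtype Co3.hw (base_mem slp2_ok.2) slp2_ok.1
    have := Tails.factorization_of_perm (Co3.H).subtype Co3.hw hinj cert2
      (Tails.exists_pick _ Co3.hw hs2 pick2_ok.1) (Tails.exists_pick _ Co3.hw hs2 pick2_ok.2)
      cert2_eqs cert2_comb hs rels2_ok.1 rels2_ok.2 (p := 2) hDp hm all2_ok.1 all2_ok.2 inner2_ok.1 inner2_ok.2
      hcard hQ Γ σ hσ
    rwa [hb] at this
  · obtain ⟨hs, hDp, hm, hb, hQ⟩ := cert3_shape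
    have hs3 := Tails.exists_slp (Co3.H).subtype Co3.hw (base_mem slp3_ok.2) slp3_ok.1
    have := Tails.factorization_of_perm (Co3.H).subtype Co3.hw hinj cert3
      (Tails.exists_pick _ Co3.hw hs3 pick3_ok.1) (Tails.exists_pick _ Co3.hw hs3 pick3_ok.2)
      cert3_eqs cert3_comb hs rels3_ok.1 rels3_ok.2 (p := 3) hDp hm all3_ok.1 all3_ok.2 inner3_ok.1 inner3_ok.2
      hcard hQ Γ σ hσ
    rwa [hb] at this
  · obtain ⟨hs, hDp, hm, hb, hQ⟩ := cert5_shape
    have hs5 := Tails.exists_slp (Co3.H).subtype Co3.hw (base_mem slp5_ok.2) slp5_ok.1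
    have := Tails.factorization_of_perm (Co3.H).subtype Co3.hw hinj cert5
      (Tails.exists_pick _ Co3.hw hs5 pick5_ok.1) (Tails.exists_pick _ Co3.hw hs5 pick5_ok.2)
      cert5_eqs cert5_comb hs rels5_ok.1 rels5_ok.2 (p := 5) hDp hm all5_ok.1 all5_ok.2 inner5_ok.1 inner5_ok.2
      hcard hQ Γ σ hσ
    rwa [hb] at this
  · rw [hord 0 (by norm_num) 7 rfl (by norm_num) (by norm_num)]; exact Nat.zero_le _
  · rw [hord 1 (by norm_num) 11 rfl (by norm_num) (by norm_num)]; exact Nat.zero_le _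
  · rw [hord 2 (by norm_num) 23 rfl (by norm_num) (by norm_num)]; exact Nat.zero_le _

theorem hasMultiplier : Cfsg.HasCyclicSchurMultiplier Co3.H 1 := by
  refine Basic.hasCyclicSchurMultiplier_one_of fun Γ _ _ σ hσ => ?_
  exact Subgroup.card_eq_one.1 (le_antisymm (card_ker_le Γ σ hσ) Nat.card_pos)

end CfsgLib.Schur.Sporadic.Co3
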